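import Cfsg.Agent.H711.RM.Seven
import Cfsg.Agent.H497.MG.Five

/-!
# S3509, Monster: the elements of order 7 commuting with an involution, without hypotheses (helper711)
-/

set_option autoImplicit false

namespace Cfsg.Agent.H711.RM

open Cfsg Cfsg.Agent.LThreeMB
open Cfsg.Agent.BpSpor.MBigModel Cfsg.Agent.H199.NSmMon
open Subgroup (centralizer zpowers mem_centralizer_singleton_iff)
open Cfsg.Agent.H497.MG (TC)

theorem ev_of_inv7 {y : MG} (hy : orderOf y = 7) (he : ∃ t : MG, orderOf t = 2 ∧ t * y = y * t) : Ev y := by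
  have hfin := finite
  obtain ⟨t, ht, hty⟩ := he
  apply MSevenT.hex7 y hy
  rw [← ht, ← Subgroup.orderOf_mk t (mem_centralizer_singleton_iff.2 hty)]
  exact orderOf_dvd_natCard _

/-- **elements of order 7 commuting with a conjugate of `z`** -/
theorem tc_seven {x : MG} (hx : orderOf x = 7) (he : Ev x) : Spor.IsoHe (XX x) ∨ TC x :=
  tc_seven_of' (hr_of_i5 fun hx hy he h => Cfsg.Agent.H497.MG.i5 (Or.inl rfl) hx hy he h) hx he

/-- **an element of order 3 or 5 commuting with an even element of order 7 is even** -/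
theorem i7 {q : ℕ} (hq : q = 3 ∨ q = 5) {x y : MG} (hx : orderOf x = q) (hy : orderOf y = 7)
    (he : ∃ t : MG, orderOf t = 2 ∧ t * y = y * t) (h : x * y = y * x) :
    ∃ t : MG, orderOf t = 2 ∧ t * x = x * t :=
  i7_of' (hr_of_i5 fun hx hy he h => Cfsg.Agent.H497.MG.i5 (Or.inl rfl) hx hy he h) hq hx hy he h

end Cfsg.Agent.H711.RM
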