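import Cfsg.Agent.H19.Odd.HeEl7
import Cfsg.Agent.H436.HeFive
import Cfsg.Agent.H8.Mon.Tool

/-!
# S3509, Monster: elements of order 3 and 5 of He have even centralizers, lift to the Monster (helper711)

* `he_even` : an element of order 3 or 5 of He commutes with an involution;
* `i7_he` : an element of order 3 or 5 of the Monster commuting with `y` of order 7, `C(y)/⟨y⟩ ≅ He`, commutes
  with an involution.
-/

set_option autoImplicit false
set_option maxRecDepth 100000

namespace Cfsg.Agent.H711.RM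

open Subgroup Cfsg Cfsg.Agent.LThreeMB
open Cfsg.Spor.He (Gen)
open Cfsg.Agent.SporadicB.HePerm (act wd phi phi_wd_apply)
open Cfsg.Agent.FixBN.HeStab Cfsg.Agent.KFacts.He.Lv Cfsg.Agent.CpAutHe.Cnt
open Cfsg.Agent.H19.Odd.HeEl Cfsg.Agent.H19.Odd.HeCnt
open Cfsg.Agent.BpSpor.MBigModel (MG)

/-- transport of a commuting involution -/
theorem inv_of_conj {G : Type*} [Group G] {x y g : G} (h : g * x * g⁻¹ = y)
    (he : ∃ t : G, orderOf t = 2 ∧ t * y = y * t) : ∃ t : G, orderOf t = 2 ∧ t * x = x * t := by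
  obtain ⟨t, ht, h1⟩ := he
  refine ⟨g⁻¹ * t * g, ?_, ?_⟩
  · rw [← ht]
    have := MulEquiv.orderOf_eq (MulAut.conj g⁻¹) t
    rwa [MulAut.conj_apply, inv_inv] at this
  · rw [← h] at h1
    calc g⁻¹ * t * g * x = g⁻¹ * (t * (g * x * g⁻¹)) * g := by group
      _ = g⁻¹ * (g * x * g⁻¹ * t) * g := by rw [h1]
      _ = _ := by group

theorem inv_A : ∃ t : Cfsg.Spor.He, orderOf t = 2 ∧ t * wd XA = wd XA * t :=
  ⟨wd [.a], H436.HeFive.orderA, (comm_of_chk (v := [.a]) (w := XA) (by decide +kernel)).eq⟩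

theorem order_e : orderOf (wd [Gen.e]) = 2 :=
  orderOf_of Nat.prime_two (pow_of_chk (by decide +kernel)) (Cfsg.Agent.CpAutHe.Seven.ne_one_of_act 30 (by decide +kernel))

theorem inv_B : ∃ t : Cfsg.Spor.He, orderOf t = 2 ∧ t * wd XB = wd XB * t :=
  ⟨wd [.e], order_e, (comm_of_chk (v := [.e]) (w := XB) (by decide +kernel)).eq⟩

theorem he_three {b : Cfsg.Spor.He} (hb : orderOf b = 3) : ∃ t : Cfsg.Spor.He, orderOf t = 2 ∧ t * b = b * t := by
  have h3 : Fact (Nat.Prime 3) := ⟨Nat.prime_three⟩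
  obtain ⟨y, hy, g, hg⟩ := Cfsg.Agent.H19.Odd.Heis.reps3 A_pow U3_pow V3_pow A_U3 A_V3 U3_V3 (by norm_num) A_ne (not_dvd (by decide)) hb
  have key : (∃ t : Cfsg.Spor.He, orderOf t = 2 ∧ t * y = y * t) → ∃ t : Cfsg.Spor.He, orderOf t = 2 ∧ t * b = b * t := by
    rintro ⟨t, ht, h1⟩
    have h2 : g * b * g⁻¹ ∈ zpowers y := by rw [← hg]; exact mem_zpowers _
    obtain ⟨i, hi⟩ := mem_zpowers_iff.1 h2
    refine inv_of_conj (g := g) rfl ⟨t, ht, ?_⟩
    rw [← hi]
    exact ((show Commute t y from h1).zpow_right i).eq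
  apply key
  rcases hy with rfl | rfl | ⟨i, hi, rfl⟩
  · exact inv_A
  · exact inv_of_conj g3u inv_A
  · interval_cases i
    · rw [pow_zero, mul_one]
      exact inv_of_conj g3v inv_A
    · rw [pow_one, ← wd_append]
      exact inv_of_conj g3a inv_B
    · rw [pow_two, ← wd_append, ← wd_append]
      exact inv_of_conj g3b inv_B

theorem he_five {b : Cfsg.Spor.He} (hb : orderOf b = 5) : ∃ t : Cfsg.Spor.He, orderOf t = 2 ∧ t * b = b * t := by
  obtain ⟨u, hu⟩ := H436.HeFive.exists_conj hb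
  obtain ⟨i, hi⟩ := mem_zpowers_iff.1 hu
  refine inv_of_conj (g := u) rfl ⟨_, H436.HeFive.orderA, ?_⟩
  rw [← hi]
  exact ((show Commute _ _ from H436.HeFive.commA).zpow_right i).eq

/-- **Elements of order 3 and 5 of He commute with involutions.** -/
theorem he_even {q : ℕ} (hq : q = 3 ∨ q = 5) {b : Cfsg.Spor.He} (hb : orderOf b = q) :
    ∃ t : Cfsg.Spor.He, orderOf t = 2 ∧ t * b = b * t := by
  rcases hq with rfl | rfl
  · exact he_three hb
  · exact he_five hb

/-- **The elements of order 3 and 5 commuting with an element of type He.** -/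
theorem i7_he {q : ℕ} (hq : q = 3 ∨ q = 5) {x y : MG} (hx : orderOf x = q) (hy : orderOf y = 7)
    (hN : Spor.IsoHe (XX y)) (h : x * y = y * x) : ∃ t : MG, orderOf t = 2 ∧ t * x = x * t := by
  have hfin : Finite MG := BpSpor.MBigModel.finite
  have hqp : q.Prime := by rcases hq with rfl | rfl <;> norm_num
  have hqF : Fact q.Prime := ⟨hqp⟩
  obtain ⟨e⟩ := hN
  have hxo : orderOf (mk y h) = q := by
    refine orderOf_eq_prime ?_ ?_
    · have hc : Commute x y := h
      have h1 : (mk y h) ^ q = mk y (hc.pow_left q).eq := rfl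
      rw [h1]
      refine (LThreeMB.mk_eq_one _).2 ⟨0, ?_⟩
      rw [zpow_zero, ← hx, pow_orderOf_eq_one]
    · intro h1
      obtain ⟨i, hi⟩ := (LThreeMB.mk_eq_one _).1 h1
      have h2 : orderOf x ∣ 7 := by
        rw [← hi, ← hy]
        apply orderOf_dvd_of_pow_eq_one
        rw [← zpow_natCast, ← zpow_mul, mul_comm, zpow_mul, zpow_natCast, pow_orderOf_eq_one, one_zpow]
      rw [hx] at h2
      rcases hq with rfl | rfl <;> norm_num at h2
  obtain ⟨u, hu, hux⟩ := he_even hq (b := e (mk y h)) (by rw [MulEquiv.orderOf_eq, hxo])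
  obtain ⟨s, hs, hs2, hsu⟩ := H8.Mon.exists_lift (g := y) (r := 7) (by decide) hy (v := e.symm u)
    (by rw [MulEquiv.orderOf_eq, hu])
  refine ⟨s, hs2, (H8.Mon.comm_of_mk (r := 7) (by decide) hy (by rw [← pow_two, ← hs2, pow_orderOf_eq_one]) hs h ?_).symm⟩
  apply e.injective
  rw [map_mul, map_mul, hsu, e.apply_symm_apply, hux]

end Cfsg.Agent.H711.RM
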