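import Cfsg.Agent.H537.OreM.SevEven
import Cfsg.Agent.H497.MG.TC
import Cfsg.Agent.H711.RM.HeEven
import Cfsg.Agent.MFive.JTwo

/-!
# S3509, Monster: the centralizers of the 7-central elements (helper711)

* `tc_w` : `O_{2'}(C(w))` is a 7-group, `w` is of type `TC`;
* `tc_seven_of` : an element of order 7 commuting with an involution is of type He or `TC`;
* `i7_of` : an element of order 3 or 5 commuting with an even element of order 7 is even.
-/

set_option autoImplicit false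
set_option maxRecDepth 100000

namespace Cfsg.Agent.H711.RM

open Cfsg Cfsg.Agent.MonsterX Cfsg.Agent.MonsterX.InstData Cfsg.Agent.MonsterX.MainPack Cfsg.Agent.MonsterU
open Cfsg.Agent.MonsterP Cfsg.Agent.MonsterN Cfsg.Agent.LThreeMB
open Cfsg.Agent.MonsterX.MainBasic Cfsg.Agent.MonsterX.MainSimple Cfsg.Agent.MonsterX.Model
open Cfsg.Agent.MonsterU.Lam2 Cfsg.Agent.MonsterU.TwoCls
open Cfsg.Agent.BpSpor.MBigModel Cfsg.Agent.H199.NSmMon
open Cfsg.Spor (Co1)
open Subgroup (centralizer zpowers mem_centralizer_singleton_iff)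
open Cfsg.Agent.H961.SevLift Cfsg.Agent.H537.OreM
open Cfsg.Agent.H497.MG (TC TC.of_sup)

/-- an element of order 3 commuting with an involution -/
theorem ev_of_t {y t : MG} (hy : orderOf y = 3) (ht : orderOf t = 2) (h : t * y = y * t) : Ev y := by
  have hfin := finite
  apply ev_of_even hy
  rw [Nat.not_odd_iff_even, even_iff_two_dvd, ← ht, ← Subgroup.orderOf_mk t (mem_centralizer_singleton_iff.2 h)]
  exact orderOf_dvd_natCard _

/-- **the 7-central element is of type `TC`** -/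
theorem tc_w' (HR : ∀ (w : centralizer ({zz} : Set MG)) (R : Subgroup ↥(centralizer ({(w : MG)} : Set MG))), R.Normal →
      IsPGroup 3 ↥R → 3 ^ 6 ∣ Nat.card ↥R → ¬ 3 ^ 8 ∣ Nat.card ↥R →
      5 ∣ Nat.card ↥(centralizer ({zD w} : Set ↥(centralizer ({(w : MG)} : Set MG)))) →
      ∃ y ∈ R, orderOf (y : MG) = 3 ∧ ∃ t : MG, orderOf t = 2 ∧ t * (y : MG) = y * t) :
    ∃ w : centralizer ({zz} : Set MG), orderOf w = 7 ∧ fr (pi w) = 1 ∧ TC (w : MG) := by
  have hfin := finite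
  have h7 : Nat.Prime 7 := by norm_num
  have h7' : Fact (Nat.Prime 7) := ⟨h7⟩
  obtain ⟨y, v, s', a, c, w, hL, h5⟩ := H961.SevM.exists_data'
  obtain ⟨Q, hQ, -⟩ := H961.SevM.exists_qq hL h5
  have hwo' : orderOf (w : MG) = 7 := orderOf_eq_prime hL.w7 hL.w1
  have hwo : orderOf w = 7 := by rw [← Subgroup.orderOf_coe, hwo']
  have hfr : fr (pi w) = 1 := H961.SevM.fr_eq_one hL h5 hwo
  refine ⟨w, hwo, hfr, ?_⟩
  have hx7 : w ^ 7 = 1 := by rw [← hwo, pow_orderOf_eq_one]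
  obtain ⟨hs, -, hc⟩ := Cfsg.Agent.H961.SevX.xx_facts (MFive.orderOf_pi chart h7 (by decide) hwo) hfr
  have hns : ¬ Group.IsSolvable (XX (pi w)) := not_solvable hs hc (by norm_num) (by norm_num)
  have hz := BpRankZero.Seven.only_zD KDone.lft LThreeB.Row.cent hx7 hfr
  obtain ⟨N, hN⟩ := BpSpor.M5.exists_rad chart (by norm_num) hwo hfr
    (fun d hd hc => by
      have h1 := hz ⟨d * zz * d⁻¹, mem_centralizer_singleton_iff.2 (by
        have h2 : (w : MG) * zz = zz * w := mem_centralizer_singleton_iff.1 w.2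
        calc d * zz * d⁻¹ * (w : MG) = d * zz * (d⁻¹ * (w * d)) * d⁻¹ := by group
          _ = d * zz * (d⁻¹ * (d * w)) * d⁻¹ := by rw [hd]
          _ = d * (zz * w) * d⁻¹ := by group
          _ = d * (w * zz) * d⁻¹ := by rw [h2]
          _ = (d * w) * zz * d⁻¹ := by group
          _ = (w * d) * zz * d⁻¹ := by rw [hd]
          _ = (w : MG) * (d * zz * d⁻¹) := by group)⟩
        (Subtype.ext (by
          show d * zz * d⁻¹ * (d * zz * d⁻¹) = 1
          calc d * zz * d⁻¹ * (d * zz * d⁻¹) = d * (zz * zz) * d⁻¹ := by group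
            _ = 1 := by rw [zz_sq]; group)) (Subtype.ext hc)
      rcases h1 with h1 | h1
      · exfalso
        have h2 : d * zz * d⁻¹ = 1 := congrArg Subtype.val h1
        rw [conj_eq_one_iff] at h2
        exact zz_ne h2
      · exact congrArg Subtype.val h1) hs (by rw [hc]; decide)
  have hNn := hN.nN
  -- `Q ≤ N`
  have hfree := H609.Inv.Seven.free_chart chart hQ hwo hfr
  have hzw : zz * (w : MG) = w * zz := (mem_centralizer_singleton_iff.1 w.2).symm
  have hQN : ∀ q (hq : q ∈ Q), (⟨q, hQ.le hq⟩ : ↥(centralizer ({(w : MG)} : Set MG))) ∈ N := by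
    intro q hq
    obtain ⟨j, hj⟩ := H609.Inv.Seven.inverts hQ hwo' zz_sq hzw hfree hq
    obtain ⟨n, hn, e, hez, hg⟩ := hN.sup ⟨q, hQ.le hq⟩
    -- `z q z⁻¹ q⁻¹ ∈ N`
    have h1 : zD w * (⟨q, hQ.le hq⟩ : ↥(centralizer ({(w : MG)} : Set MG))) * (zD w)⁻¹ *
        (⟨q, hQ.le hq⟩ : ↥(centralizer ({(w : MG)} : Set MG)))⁻¹ ∈ N := by
      rw [hg]
      have h2 : zD w * (n * e) * (zD w)⁻¹ * (n * e)⁻¹ = (zD w * n * (zD w)⁻¹) * n⁻¹ := by
        have h3 : zD w * e = e * zD w := hez.symm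
        calc zD w * (n * e) * (zD w)⁻¹ * (n * e)⁻¹ = zD w * n * (e * (zD w)⁻¹ * e⁻¹) * n⁻¹ := by group
          _ = zD w * n * ((zD w)⁻¹ * (zD w * e) * (zD w)⁻¹ * e⁻¹) * n⁻¹ := by group
          _ = zD w * n * ((zD w)⁻¹ * (e * zD w) * (zD w)⁻¹ * e⁻¹) * n⁻¹ := by rw [h3]
          _ = _ := by group
      rw [h2]
      exact N.mul_mem (hNn.conj_mem n hn _) (N.inv_mem hn)
    have h2 : (zD w * (⟨q, hQ.le hq⟩ : ↥(centralizer ({(w : MG)} : Set MG))) * (zD w)⁻¹ *
        (⟨q, hQ.le hq⟩ : ↥(centralizer ({(w : MG)} : Set MG)))⁻¹) =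
        (⟨q, hQ.le hq⟩ : ↥(centralizer ({(w : MG)} : Set MG)))⁻¹ * (self (w : MG)) ^ j *
          (⟨q, hQ.le hq⟩ : ↥(centralizer ({(w : MG)} : Set MG)))⁻¹ := by
      apply Subtype.ext
      change zz * q * zz⁻¹ * q⁻¹ = q⁻¹ * (w : MG) ^ j * q⁻¹
      rw [hj]
    rw [h2] at h1
    -- so `q ^ 2 ∈ N`
    have h3 : (⟨q, hQ.le hq⟩ : ↥(centralizer ({(w : MG)} : Set MG))) ^ 2 ∈ N := by
      have h4 := N.mul_mem (N.zpow_mem hN.xN j) (N.inv_mem h1)
      have hcj : Commute ((self (w : MG)) ^ j) (⟨q, hQ.le hq⟩ : ↥(centralizer ({(w : MG)} : Set MG))) :=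
        (show Commute (self (w : MG)) _ from (hN.xc _).symm).zpow_left j
      have h5 : self (w : MG) ^ j * ((⟨q, hQ.le hq⟩ : ↥(centralizer ({(w : MG)} : Set MG)))⁻¹ * (self (w : MG)) ^ j *
          (⟨q, hQ.le hq⟩ : ↥(centralizer ({(w : MG)} : Set MG)))⁻¹)⁻¹ =
          (⟨q, hQ.le hq⟩ : ↥(centralizer ({(w : MG)} : Set MG))) ^ 2 := by
        rw [pow_two]
        calc self (w : MG) ^ j * ((⟨q, hQ.le hq⟩ : ↥(centralizer ({(w : MG)} : Set MG)))⁻¹ * (self (w : MG)) ^ j *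
            (⟨q, hQ.le hq⟩ : ↥(centralizer ({(w : MG)} : Set MG)))⁻¹)⁻¹
            = (self (w : MG) ^ j * (⟨q, hQ.le hq⟩ : ↥(centralizer ({(w : MG)} : Set MG)))) * (self (w : MG) ^ j)⁻¹ *
              (⟨q, hQ.le hq⟩ : ↥(centralizer ({(w : MG)} : Set MG))) := by group
          _ = _ := by rw [hcj.eq]; group
      rwa [h5] at h4
    -- odd order
    obtain ⟨k, hk⟩ := hQ.pgroup ⟨q, hq⟩
    have hk1 : q ^ 7 ^ k = 1 := congrArg Subtype.val hk
    have hk' : (⟨q, hQ.le hq⟩ : ↥(centralizer ({(w : MG)} : Set MG))) ^ 7 ^ k = 1 := Subtype.ext hk1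
    obtain ⟨l, hl⟩ : Odd (7 ^ k) := Odd.pow (by decide)
    have h6 : (⟨q, hQ.le hq⟩ : ↥(centralizer ({(w : MG)} : Set MG))) =
        ((⟨q, hQ.le hq⟩ : ↥(centralizer ({(w : MG)} : Set MG))) ^ 2) ^ (-(l : ℤ)) := by
      rw [hl, pow_succ, pow_mul] at hk'
      rw [zpow_neg, zpow_natCast]
      exact eq_inv_of_mul_eq_one_right hk'
    rw [h6]
    exact N.zpow_mem h3 _
  have hmap : Nat.card ↥(N.map (centralizer ({(w : MG)} : Set MG)).subtype) = Nat.card ↥N :=
    Subgroup.card_map_of_injective (Subgroup.subtype_injective _)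
  -- elements central in `N` commute with `Q`
  have hcent : ∀ m : ↥(centralizer ({(w : MG)} : Set MG)), (∀ n ∈ N, n * m = m * n) →
      7 ^ 5 ∣ Nat.card ↥(centralizer ({(m : MG)} : Set MG)) := by
    intro m hm
    rw [← hQ.card]
    apply Subgroup.card_dvd_of_le
    intro q hq
    rw [mem_centralizer_singleton_iff]
    exact congrArg Subtype.val (hm _ (hQN q hq))
  have h5z : 5 ∣ Nat.card ↥(centralizer ({zD w} : Set ↥(centralizer ({(w : MG)} : Set MG)))) := by
    refine Dvd.dvd.trans (by norm_num : 5 ∣ 2520) ?_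
    rw [← hc]
    exact Subgroup.card_dvd_of_surjective _ (MFive.toXX_surj chart h7 (by decide) hx7)
  have h3' : ¬ 3 ^ (5 + 1) ∣ Nat.card ↥N := by
    intro hd
    obtain ⟨R, hRn, hRN, hRp, hRk, -, hRc⟩ := H58.MonFiveB.exists_R' hN (by norm_num) Nat.prime_three (by norm_num)
    have h1 := hRk 6 hd
    have h8 : ¬ 3 ^ 8 ∣ Nat.card ↥R := by
      intro h1
      rw [← Subgroup.card_map_of_injective (K := R) (centralizer ({(w : MG)} : Set MG)).subtype_injective] at h1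
      obtain ⟨y, hyR, hy, he⟩ := exists_three h1
      obtain ⟨y', hy', rfl⟩ := hyR
      exact three_seven hy he (hcent y' fun n hn => hRc n hn y' hy')
    obtain ⟨y, hyR, hy, t, ht, hty⟩ := HR w R hRn hRp h1 h8 h5z
    exact three_seven hy (ev_of_t hy ht hty) (hcent y fun n hn => hRc n hn y hyR)
  have h5' : ¬ 5 ^ (5 + 1) ∣ Nat.card ↥N := by
    intro hd
    obtain ⟨R, -, hRN, -, hRk, -, hRc⟩ := H58.MonFiveB.exists_R' hN (by norm_num) Nat.prime_five (by norm_num)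
    have h1 := hRk 6 hd
    rw [← Subgroup.card_map_of_injective (K := R) (centralizer ({(w : MG)} : Set MG)).subtype_injective] at h1
    obtain ⟨y, hyR, hy, he⟩ := exists_five h1
    obtain ⟨y', hy', rfl⟩ := hyR
    exact five_seven hy he (hcent y' fun n hn => hRc n hn y' hy')
  have hle : Nat.card ↥N ∣ Nat.card ↥(centralizer ({(w : MG)} : Set MG)) := Subgroup.card_subgroup_dvd_card N
  have h2 : ¬ 2 ∣ Nat.card ↥N := by
    intro h1
    exact (Nat.not_even_iff_odd.2 hN.oN) (even_iff_two_dvd.2 h1)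
  have h11' : ¬ 11 ^ (1 + 1) ∣ Nat.card ↥N := fun h1 => not_121 hwo' (h1.trans hle)
  have hev : Ev (w : MG) := ⟨1, by rw [one_mul, inv_one, mul_one]; exact hzw⟩
  have h13 : ¬ 13 ∣ Nat.card ↥N := fun h1 => H465.SporB.Mon.seven_thirteen hwo' hev (h1.trans hle)
  have hbig : ∀ {r}, Big r → ¬ r ∣ Nat.card ↥N := fun hr h1 =>
    H70.MSeven.seven_zero hwo hfr hr (h1.trans hle)
  -- a square root of `z`
  have h4 : 4 ∣ Nat.card ↥(centralizer ({zD w} : Set ↥(centralizer ({(w : MG)} : Set MG)))) := by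
    refine Dvd.dvd.trans (by norm_num : 4 ∣ 2520) ?_
    rw [← hc]
    exact Subgroup.card_dvd_of_surjective _ (MFive.toXX_surj chart h7 (by decide) hx7)
  obtain ⟨k, hk⟩ := H70.MSeven.exists_sqrt (z := (⟨zD w, mem_centralizer_singleton_iff.2 rfl⟩ :
    ↥(centralizer ({zD w} : Set ↥(centralizer ({(w : MG)} : Set MG)))))) (by
      intro t ht
      rcases hz (t : ↥(centralizer ({(w : MG)} : Set MG))) (congrArg Subtype.val ht)
        (mem_centralizer_singleton_iff.1 t.2) with h | h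
      · exact Or.inl (Subtype.ext h)
      · exact Or.inr (Subtype.ext h)) h4
  have hkk : (k : ↥(centralizer ({(w : MG)} : Set MG))) * k = zD w := congrArg Subtype.val hk
  have h3n : ¬ 3 ∣ Nat.card ↥N := H199.AbRad.not_dvd_N hN hns (by norm_num) hkk (r := 3) (q := 7) (n := 5)
    (by norm_num) (by norm_num) (by norm_num) (by norm_num) (by rw [hc]; norm_num) h3'
    (by intro i h1 h2; interval_cases i <;> norm_num)
  have h5n : ¬ 5 ∣ Nat.card ↥N := H199.AbRad.not_dvd_N hN hns (by norm_num) hkk (r := 5) (q := 7) (n := 5)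
    (by norm_num) (by norm_num) (by norm_num) (by norm_num) (by rw [hc]; norm_num) h5'
    (by intro i h1 h2; interval_cases i <;> norm_num)
  have h11n : ¬ 11 ∣ Nat.card ↥N := H199.AbRad.not_dvd_N hN hns (by norm_num) hkk (r := 11) (q := 7) (n := 1)
    (by norm_num) (by norm_num) (by norm_num) (by norm_num) (by rw [hc]; norm_num) h11'
    (by intro i h1 h2; interval_cases i; norm_num)
  have g : Nat.card ↥N ∣ 1 * (2 ^ 46 * (3 ^ 20 * (5 ^ 9 * (7 ^ 6 * (11 ^ 2 * (13 ^ 3 * (17 ^ 1 * (19 ^ 1 *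
      (23 ^ 1 * (29 ^ 1 * (31 ^ 1 * (41 ^ 1 * (47 ^ 1 * (59 ^ 1 * (71 ^ 1 * 1))))))))))))))) :=
    hle.trans (dvd_card (w : MG))
  have g := step (j := 0) (by norm_num) g (no_pow h2)
  have g := step (j := 0) (by norm_num) g (no_pow h3n)
  have g := step (j := 0) (by norm_num) g (no_pow h5n)
  have g := step (j := 6) (by norm_num) g (fun h1 => by
    have h4 := (h1.trans hle).trans (Subgroup.card_subgroup_dvd_card _)
    rw [card_M] at h4
    norm_num at h4)
  have g := step (j := 0) (by norm_num) g (no_pow h11n)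
  have g := step (j := 0) (by norm_num) g (no_pow h13)
  have g := step (j := 0) (by norm_num) g (no_pow (hbig (r := 17) (by unfold Big; simp)))
  have g := step (j := 0) (by norm_num) g (no_pow (hbig (r := 19) (by unfold Big; simp)))
  have g := step (j := 0) (by norm_num) g (no_pow (hbig (r := 23) (by unfold Big; simp)))
  have g := step (j := 0) (by norm_num) g (no_pow (hbig (r := 29) (by unfold Big; simp)))
  have g := step (j := 0) (by norm_num) g (no_pow (hbig (r := 31) (by unfold Big; simp)))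
  have g := step (j := 0) (by norm_num) g (no_pow (hbig (r := 41) (by unfold Big; simp)))
  have g := step (j := 0) (by norm_num) g (no_pow (hbig (r := 47) (by unfold Big; simp)))
  have g := step (j := 0) (by norm_num) g (no_pow (hbig (r := 59) (by unfold Big; simp)))
  have g := step (j := 0) (by norm_num) g (no_pow (hbig (r := 71) (by unfold Big; simp)))
  have g' : Nat.card ↥N ∣ 7 ^ 6 := g.trans (by norm_num)
  obtain ⟨j, -, hj⟩ := (Nat.dvd_prime_pow h7).1 g'
  refine TC.of_sup (z := zz) zz_ne zz_sq hzw hNn hwo' hj fun g => ?_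
  obtain ⟨n, hn, c, hcz, hg⟩ := hN.sup g
  exact ⟨n, hn, c, congrArg Subtype.val hcz, hg⟩

/-- **elements of order 7 commuting with a conjugate of `z`** -/
theorem tc_seven_of'
    (HR : ∀ (w : centralizer ({zz} : Set MG)) (R : Subgroup ↥(centralizer ({(w : MG)} : Set MG))), R.Normal →
      IsPGroup 3 ↥R → 3 ^ 6 ∣ Nat.card ↥R → ¬ 3 ^ 8 ∣ Nat.card ↥R →
      5 ∣ Nat.card ↥(centralizer ({zD w} : Set ↥(centralizer ({(w : MG)} : Set MG)))) →
      ∃ y ∈ R, orderOf (y : MG) = 3 ∧ ∃ t : MG, orderOf t = 2 ∧ t * (y : MG) = y * t)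
    {x : MG} (hx : orderOf x = 7) (he : Ev x) : Spor.IsoHe (XX x) ∨ TC x := by
  have hfin := finite
  have h7 : Nat.Prime 7 := by norm_num
  obtain ⟨k, hk⟩ := he
  have hmem : k⁻¹ * x * k ∈ centralizer ({zz} : Set MG) := by
    rw [mem_centralizer_singleton_iff]
    calc k⁻¹ * x * k * zz = k⁻¹ * (x * (k * zz * k⁻¹)) * k := by group
      _ = k⁻¹ * (k * zz * k⁻¹ * x) * k := by rw [hk]
      _ = zz * (k⁻¹ * x * k) := by group
  obtain ⟨x', hx'e⟩ : ∃ x' : centralizer ({zz} : Set MG), (x' : MG) = k⁻¹ * x * k := ⟨⟨_, hmem⟩, rfl⟩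
  have hxc : k * (x' : MG) * k⁻¹ = x := by rw [hx'e]; group
  have hxo : orderOf (x' : MG) = 7 := by
    rw [← hx, ← hxc]
    exact (MulEquiv.orderOf_eq (MulAut.conj k) (x' : MG)).symm
  have hx' : orderOf x' = 7 := by rw [← Subgroup.orderOf_coe, hxo]
  rcases CpAutMSeven.Ranks.hranks (pi x') (MFive.orderOf_pi chart h7 (by decide) hx') with h | h
  · right
    obtain ⟨w, hw, hfw, hcw⟩ := tc_w' HR
    obtain ⟨g, i, hg⟩ := BpSevenCo.Conj.wclass (pi x') (pi w) (MFive.orderOf_pi chart h7 (by decide) hx')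
      (MFive.orderOf_pi chart h7 (by decide) hw) h hfw
    obtain ⟨c, hcc⟩ := MFive.exists_conj_of_conj chart h7 (by decide) (x := x') (y := w ^ i)
      (by rw [← hx', pow_orderOf_eq_one])
      (by rw [← pow_mul, mul_comm, pow_mul, ← hw, pow_orderOf_eq_one, one_pow]) (s := g) (by rw [hg, map_pow])
    have h1 : (c : MG) * (x' : MG) * (c : MG)⁻¹ = (w : MG) ^ i := by
      have := congrArg Subtype.val hcc
      exact this
    have h2 : (w : MG) ^ i ≠ 1 := by
      intro h3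
      rw [h3, conj_eq_one_iff] at h1
      rw [h1, orderOf_one] at hxo
      norm_num at hxo
    have hwo' : orderOf (w : MG) = 7 := by rw [Subgroup.orderOf_coe, hw]
    have h3 : zpowers ((w : MG) ^ i) = zpowers (w : MG) := by
      have h7F : Fact (Nat.Prime 7) := ⟨h7⟩
      have h4 : orderOf ((w : MG) ^ i) = 7 := by
        refine orderOf_eq_prime ?_ h2
        rw [← pow_mul, mul_comm, pow_mul, ← hwo', pow_orderOf_eq_one, one_pow]
      exact Subgroup.eq_of_le_of_card_ge (Subgroup.zpowers_le.2 (Subgroup.npow_mem_zpowers _ i))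
        (by rw [Nat.card_zpowers, Nat.card_zpowers, h4, hwo'])
    have h5 : TC ((w : MG) ^ i) := hcw.congr h3.symm
    have h6 : x = (k * (c : MG)⁻¹) * ((w : MG) ^ i) * (k * (c : MG)⁻¹)⁻¹ := by
      rw [← h1, ← hxc]
      group
    rw [h6]
    exact h5.conj _
  · left
    obtain ⟨e⟩ := CpAutMSeven.ZeroComps.heSix x' hx' h
    obtain ⟨f⟩ := Cfsg.Agent.MFive.JTwo.iso_of_isConj (isConj_iff.2 ⟨k, hxc⟩ : IsConj (x' : MG) x)
    exact ⟨f.symm.trans e⟩

/-- **an element of order 3 or 5 commuting with an even element of order 7 is even** -/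
theorem i7_of'
    (HR : ∀ (w : centralizer ({zz} : Set MG)) (R : Subgroup ↥(centralizer ({(w : MG)} : Set MG))), R.Normal →
      IsPGroup 3 ↥R → 3 ^ 6 ∣ Nat.card ↥R → ¬ 3 ^ 8 ∣ Nat.card ↥R →
      5 ∣ Nat.card ↥(centralizer ({zD w} : Set ↥(centralizer ({(w : MG)} : Set MG)))) →
      ∃ y ∈ R, orderOf (y : MG) = 3 ∧ ∃ t : MG, orderOf t = 2 ∧ t * (y : MG) = y * t)
    {q : ℕ} (hq : q = 3 ∨ q = 5) {x y : MG} (hx : orderOf x = q) (hy : orderOf y = 7)
    (he : ∃ t : MG, orderOf t = 2 ∧ t * y = y * t) (h : x * y = y * x) :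
    ∃ t : MG, orderOf t = 2 ∧ t * x = x * t := by
  have hfin := finite
  obtain ⟨t, ht, hty⟩ := he
  have hev : Ev y := by
    apply MSevenT.hex7 y hy
    rw [← ht, ← Subgroup.orderOf_mk t (mem_centralizer_singleton_iff.2 hty)]
    exact orderOf_dvd_natCard _
  rcases tc_seven_of' HR hy hev with h1 | h1
  · exact i7_he hq hx hy h1 h
  · obtain ⟨u, hu, hux, -⟩ := h1.common h (m := q) (by rw [← hx, pow_orderOf_eq_one]) (by
      rw [hy]
      rcases hq with rfl | rfl <;> norm_num)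
    exact ⟨u, hu, hux⟩

/-! ### The versions from the large 3-subgroups -/

theorem hr_of_t3 (T3 : ∀ {N : Subgroup MG}, 3 ^ 6 ∣ Nat.card ↥N →
      ∃ y ∈ N, orderOf y = 3 ∧ ∃ t : MG, orderOf t = 2 ∧ t * y = y * t)
    (w : centralizer ({zz} : Set MG)) (R : Subgroup ↥(centralizer ({(w : MG)} : Set MG))) (_ : R.Normal)
    (_ : IsPGroup 3 ↥R) (h6 : 3 ^ 6 ∣ Nat.card ↥R) (_ : ¬ 3 ^ 8 ∣ Nat.card ↥R)
    (_ : 5 ∣ Nat.card ↥(centralizer ({zD w} : Set ↥(centralizer ({(w : MG)} : Set MG))))) :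
    ∃ y ∈ R, orderOf (y : MG) = 3 ∧ ∃ t : MG, orderOf t = 2 ∧ t * (y : MG) = y * t := by
  rw [← Subgroup.card_map_of_injective (K := R) (centralizer ({(w : MG)} : Set MG)).subtype_injective] at h6
  obtain ⟨y, hyR, hy, t, ht, hty⟩ := T3 h6
  obtain ⟨y', hy', rfl⟩ := hyR
  exact ⟨y', hy', hy, t, ht, hty⟩

/-- the 7-central element is of type `TC` -/
theorem tc_w (T3 : ∀ {N : Subgroup MG}, 3 ^ 6 ∣ Nat.card ↥N →
      ∃ y ∈ N, orderOf y = 3 ∧ ∃ t : MG, orderOf t = 2 ∧ t * y = y * t) :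
    ∃ w : centralizer ({zz} : Set MG), orderOf w = 7 ∧ fr (pi w) = 1 ∧ TC (w : MG) :=
  tc_w' (hr_of_t3 T3)

/-- elements of order 7 commuting with a conjugate of `z` -/
theorem tc_seven_of (T3 : ∀ {N : Subgroup MG}, 3 ^ 6 ∣ Nat.card ↥N →
      ∃ y ∈ N, orderOf y = 3 ∧ ∃ t : MG, orderOf t = 2 ∧ t * y = y * t)
    {x : MG} (hx : orderOf x = 7) (he : Ev x) : Spor.IsoHe (XX x) ∨ TC x :=
  tc_seven_of' (hr_of_t3 T3) hx he

/-- an element of order 3 or 5 commuting with an even element of order 7 is even -/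
theorem i7_of (T3 : ∀ {N : Subgroup MG}, 3 ^ 6 ∣ Nat.card ↥N →
      ∃ y ∈ N, orderOf y = 3 ∧ ∃ t : MG, orderOf t = 2 ∧ t * y = y * t)
    {q : ℕ} (hq : q = 3 ∨ q = 5) {x y : MG} (hx : orderOf x = q) (hy : orderOf y = 7)
    (he : ∃ t : MG, orderOf t = 2 ∧ t * y = y * t) (h : x * y = y * x) :
    ∃ t : MG, orderOf t = 2 ∧ t * x = x * t :=
  i7_of' (hr_of_t3 T3) hq hx hy he h

/-! ### The versions from the elements of order 5 -/

/-- **an element of order 5 commuting with `z` fixes an element of order 3** -/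
theorem hr_of_i5 (I5 : ∀ {x y : MG}, orderOf x = 3 → orderOf y = 5 → (∃ t : MG, orderOf t = 2 ∧ t * y = y * t) →
      x * y = y * x → ∃ t : MG, orderOf t = 2 ∧ t * x = x * t)
    (w : centralizer ({zz} : Set MG)) (R : Subgroup ↥(centralizer ({(w : MG)} : Set MG))) (hRn : R.Normal)
    (hRp : IsPGroup 3 ↥R) (h6 : 3 ^ 6 ∣ Nat.card ↥R) (h8 : ¬ 3 ^ 8 ∣ Nat.card ↥R)
    (h5 : 5 ∣ Nat.card ↥(centralizer ({zD w} : Set ↥(centralizer ({(w : MG)} : Set MG))))) :
    ∃ y ∈ R, orderOf (y : MG) = 3 ∧ ∃ t : MG, orderOf t = 2 ∧ t * (y : MG) = y * t := by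
  have hfin := finite
  have h3F : Fact (Nat.Prime 3) := ⟨Nat.prime_three⟩
  have h5F : Fact (Nat.Prime 5) := ⟨Nat.prime_five⟩
  obtain ⟨s, hs⟩ := exists_prime_orderOf_dvd_card' 5 h5
  -- the element of order 5
  obtain ⟨v, hv⟩ : ∃ v : ↥(centralizer ({(w : MG)} : Set MG)), v = s := ⟨s, rfl⟩
  have hvz : v * zD w = zD w * v := by rw [hv]; exact mem_centralizer_singleton_iff.1 s.2
  have hvo : orderOf v = 5 := by rw [hv, Subgroup.orderOf_coe, hs]
  obtain ⟨k, hk⟩ := IsPGroup.iff_card.1 hRp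
  have hk6 : 6 ≤ k := by
    rw [hk] at h6
    exact (Nat.pow_dvd_pow_iff_le_right (by norm_num : 1 < 3)).1 h6
  have hk8 : k < 8 := by
    by_contra hcon
    exact h8 (hk ▸ pow_dvd_pow 3 (not_lt.1 hcon))
  -- the action
  let φ : ↥(zpowers v) →* MulAut ↥R := MulAut.conjNormal.comp (zpowers v).subtype
  letI : MulAction ↥(zpowers v) ↥R := MulAction.compHom ↥R φ
  have hsmul : ∀ (a : ↥(zpowers v)) (r : ↥R), ((a • r : ↥R) : ↥(centralizer ({(w : MG)} : Set MG))) =
      (a : ↥(centralizer ({(w : MG)} : Set MG))) * r * (a : ↥(centralizer ({(w : MG)} : Set MG)))⁻¹ := fun a r => rfl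
  have hP : IsPGroup 5 ↥(zpowers v) := IsPGroup.of_card (n := 1) (by rw [Nat.card_zpowers, hvo, pow_one])
  have hmod := hP.card_modEq_card_fixedPoints ↥R
  rw [hk] at hmod
  have hnt : ∃ r : ↥R, r ∈ MulAction.fixedPoints ↥(zpowers v) ↥R ∧ r ≠ 1 := by
    by_contra hcon
    push Not at hcon
    have h1 : MulAction.fixedPoints ↥(zpowers v) ↥R = {1} := by
      ext r
      rw [Set.mem_singleton_iff]
      refine ⟨hcon r, ?_⟩
      rintro rfl a
      apply Subtype.ext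
      rw [hsmul]
      simp
    rw [h1, Nat.card_unique] at hmod
    have h2 : k = 6 ∨ k = 7 := by omega
    rcases h2 with rfl | rfl
    · exact absurd hmod (by decide)
    · exact absurd hmod (by decide)
  obtain ⟨r, hr, hr1⟩ := hnt
  have hrv : (r : ↥(centralizer ({(w : MG)} : Set MG))) * v = v * r := by
    have h1 := congrArg Subtype.val (hr ⟨v, Subgroup.mem_zpowers v⟩)
    rw [hsmul] at h1
    rw [mul_inv_eq_iff_eq_mul] at h1
    exact h1.symm
  -- a power of order 3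
  obtain ⟨n, hn, hn0⟩ : ∃ n, orderOf r = 3 ^ n ∧ n ≠ 0 := by
    obtain ⟨n, hn⟩ := IsPGroup.iff_orderOf.1 hRp r
    refine ⟨n, hn, ?_⟩
    rintro rfl
    rw [pow_zero, orderOf_eq_one_iff] at hn
    exact hr1 hn
  obtain ⟨m, rfl⟩ := Nat.exists_eq_succ_of_ne_zero hn0
  have hy3 : orderOf (r ^ 3 ^ m) = 3 := by
    rw [orderOf_pow_of_dvd (by positivity) (by rw [hn, pow_succ]; exact dvd_mul_right _ _), hn, pow_succ,
      Nat.mul_div_cancel_left _ (by positivity)]
  have hvM : orderOf (v : MG) = 5 := by rw [Subgroup.orderOf_coe, hvo]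
  have hyM : orderOf (((r ^ 3 ^ m : ↥R) : ↥(centralizer ({(w : MG)} : Set MG))) : MG) = 3 := by
    rw [Subgroup.orderOf_coe, Subgroup.orderOf_coe, hy3]
  refine ⟨((r ^ 3 ^ m : ↥R) : ↥(centralizer ({(w : MG)} : Set MG))), (r ^ 3 ^ m).2, hyM, ?_⟩
  refine I5 hyM hvM ⟨zz, BpSpor.MBigModel.orderOf_zz, ?_⟩ ?_
  · exact (congrArg Subtype.val hvz).symm
  · have h1 : Commute (r : ↥(centralizer ({(w : MG)} : Set MG))) v := hrv
    have h2 := (h1.pow_left (3 ^ m)).eq
    exact congrArg Subtype.val h2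

end Cfsg.Agent.H711.RM
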